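import Cfsg.Agent.HNMult.HS
import Cfsg.Agent.HNCert.Lower
import Cfsg.Agent.RankThree.HigmanSimsLattice
import Cfsg.Prelude.Def_SporadicB

/-!
The subgroup on `x, y, z` of `HN` contains a nonsplit double cover of HS with index two.
-/

set_option autoImplicit false

namespace CfsgLib.HNMult

open CfsgLib.HNCert
open scoped commutatorElement

noncomputable section

theorem hs_center_bot : Subgroup.center Cfsg.Spor.HS = ⊥ ∧ Nat.card Cfsg.Spor.HS = 44352000 := by
  obtain ⟨e⟩ := RankThree.nonempty_SporHS_equiv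
  have hc : Nat.card Cfsg.Spor.HS = 44352000 :=
    (Nat.card_congr e.toEquiv).trans Mathieu.HigmanSims.card_hs
  haveI : IsSimpleGroup Cfsg.Spor.HS :=
    e.isSimpleGroup_congr.2 Mathieu.HigmanSims.hs_isSimpleGroup
  refine ⟨(IsSimpleGroup.eq_bot_or_eq_top_of_normal _ inferInstance).resolve_right fun htop => ?_, hc⟩
  letI : CommGroup Cfsg.Spor.HS := Group.commGroupOfCenterEqTop htop
  have hp : (Nat.card Cfsg.Spor.HS).Prime := IsSimpleGroup.prime_card
  rw [hc] at hp
  exact absurd hp (by norm_num)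

/-- Transport along an isomorphism. -/
theorem isNonsplitDoubleCover_congr {A B : Type*} [Group A] [Group B] {C : Type*} [Group C]
    (e : A ≃* B) (h : Cfsg.IsNonsplitDoubleCover A C) : Cfsg.IsNonsplitDoubleCover B C := by
  obtain ⟨h1, ⟨i⟩, h3⟩ := h
  have hmap : (Subgroup.center A).map e.toMonoidHom = Subgroup.center B := by
    ext b
    rw [Subgroup.mem_map, Subgroup.mem_center_iff]
    constructor
    · rintro ⟨a, ha, rfl⟩ c
      obtain ⟨d, rfl⟩ := e.surjective c
      simp only [MulEquiv.coe_toMonoidHom, ← map_mul, Subgroup.mem_center_iff.1 ha d]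
    · intro hb
      refine ⟨e.symm b, Subgroup.mem_center_iff.2 fun d => e.injective ?_, e.apply_symm_apply b⟩
      rw [map_mul, map_mul, e.apply_symm_apply]
      exact hb (e d)
  refine ⟨?_, ⟨(QuotientGroup.congr _ _ e hmap).symm.trans i⟩, fun L hL => h3 (L.comap e.toMonoidHom) ?_⟩
  · rw [← hmap, Subgroup.card_map_of_injective e.injective]
    exact h1
  · refine Subgroup.isComplement_iff_existsUnique.2 fun a => ?_
    obtain ⟨⟨z, l⟩, hz, huniq⟩ := Subgroup.isComplement_iff_existsUnique.1 hL (e a)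
    have hz' : e.symm z ∈ Subgroup.center A := by
      obtain ⟨z0, hz0, h0⟩ := (hmap.symm ▸ z.2 : (z : B) ∈ (Subgroup.center A).map e.toMonoidHom)
      rw [← h0]; simpa using hz0
    have hl' : e.symm l ∈ L.comap e.toMonoidHom := by simp
    refine ⟨⟨⟨_, hz'⟩, ⟨_, hl'⟩⟩, ?_, ?_⟩
    · show e.symm z * e.symm l = a
      rw [← map_mul, hz, e.symm_apply_apply]
    · rintro ⟨⟨u, hu⟩, ⟨v, hv⟩⟩ huv
      have := huniq (⟨e u, hmap ▸ Subgroup.mem_map_of_mem _ hu⟩, ⟨e v, hv⟩) (by
        show e u * e v = e a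
        rw [← map_mul]; exact congrArg e huv)
      simp only [Prod.mk.injEq] at this
      obtain ⟨r1, r2⟩ := this
      refine Prod.ext (Subtype.ext ?_) (Subtype.ext ?_)
      · show u = e.symm z; rw [← r1]; simp
      · show v = e.symm l; rw [← r2]; simp

/-- The derived group of `P` is a nonsplit double cover of HS of index two. -/
theorem cover (hB : Bound) : Q.index = 2 ∧ Cfsg.IsNonsplitDoubleCover Q Cfsg.Spor.HS := by
  have := hB.1
  obtain ⟨f, hf, hk, hc⟩ := exists_to_HS hB
  have hcQ : Nat.card Q = 88704000 := by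
    have h := Subgroup.card_eq_card_quotient_mul_card_subgroup f.ker
    rw [Nat.card_congr (QuotientGroup.quotientKerEquivOfSurjective f hf).toEquiv, hk,
      hs_center_bot.2] at h
    exact h
  have hle : f.ker ≤ Subgroup.center Q := fun q hq => Subgroup.mem_center_iff.2 fun u =>
    Subtype.ext (Subgroup.mem_center_iff.1 (hc q hq) (u : P))
  have hcen : Subgroup.center Q = f.ker := by
    refine le_antisymm (fun y hy => ?_) hle
    rw [MonoidHom.mem_ker, ← Subgroup.mem_bot, ← hs_center_bot.1, Subgroup.mem_center_iff]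
    intro v
    obtain ⟨u, rfl⟩ := hf v
    rw [← map_mul, ← map_mul, Subgroup.mem_center_iff.1 hy u]
  refine ⟨?_, by rw [hcen, hk], ⟨(QuotientGroup.quotientMulEquivOfEq hcen).trans
    (QuotientGroup.quotientKerEquivOfSurjective f hf)⟩, fun L hL => ?_⟩
  · have h := Subgroup.card_mul_index Q
    rw [hcQ, card_P hB] at h
    omega
  · -- a perfect group has no such complement
    have hsplit : ∀ q : Q, ∃ z ∈ Subgroup.center Q, ∃ l ∈ L, q = z * l := fun q => by
      obtain ⟨⟨z, l⟩, e, -⟩ := Subgroup.isComplement_iff_existsUnique.1 hL q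
      exact ⟨z, z.2, l, l.2, e.symm⟩
    have htop : commutator Q ≤ L := by
      rw [commutator_def, Subgroup.commutator_le]
      intro a _ b _
      obtain ⟨z, hz, l, hl, rfl⟩ := hsplit a
      obtain ⟨z', hz', m, hm, rfl⟩ := hsplit b
      have c1 : ∀ u : Q, u * z = z * u := fun u => Subgroup.mem_center_iff.1 hz u
      have c2 : ∀ u : Q, u * z' = z' * u := fun u => Subgroup.mem_center_iff.1 hz' u
      have : ⁅z * l, z' * m⁆ = ⁅l, m⁆ := by
        simp only [commutatorElement_def, mul_inv_rev]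
        calc z * l * (z' * m) * (l⁻¹ * z⁻¹) * (m⁻¹ * z'⁻¹)
            = z * (l * z') * m * l⁻¹ * z⁻¹ * m⁻¹ * z'⁻¹ := by group
          _ = (z * z') * (l * m * l⁻¹) * z⁻¹ * m⁻¹ * z'⁻¹ := by rw [c2 l]; group
          _ = (z' * z) * (l * m * l⁻¹) * z⁻¹ * m⁻¹ * z'⁻¹ := by rw [c2 z]
          _ = z' * (z * (l * m * l⁻¹)) * z⁻¹ * m⁻¹ * z'⁻¹ := by group
          _ = z' * ((l * m * l⁻¹) * z) * z⁻¹ * m⁻¹ * z'⁻¹ := by rw [c1 (l * m * l⁻¹)]
          _ = (z' * (l * m * l⁻¹ * m⁻¹)) * z'⁻¹ := by group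
          _ = _ := by rw [← c2 (l * m * l⁻¹ * m⁻¹)]; group
      rw [this, commutatorElement_def]
      exact L.mul_mem (L.mul_mem (L.mul_mem hl hm) (L.inv_mem hl)) (L.inv_mem hm)
    have hperf : commutator Q = ⊤ := by
      have := perfect
      rw [commutator_def]
      apply Subgroup.map_injective Q.subtype_injective
      rw [Subgroup.map_commutator, ← MonoidHom.range_eq_map, Subgroup.range_subtype]
      exact this
    have hL' : L = ⊤ := top_unique (hperf ▸ htop)
    have hcard := hL.card_mul_card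
    have h2 : Nat.card (Subgroup.center Q) = 2 := by rw [hcen]; exact hk
    rw [h2, hL', Subgroup.card_top, hcQ] at hcard
    omega

end

end CfsgLib.HNMult
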