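import Cfsg.Agent.HNCert.Setup

/-!
Five tables on 100 points for the letters of `CfsgLib.HNCert.P`, and words for the generators of the
Higman–Sims model and for its outer symmetry.
-/

set_option autoImplicit false

namespace CfsgLib.HNMult

/-- The tables of the letters. -/
def tabs : List ℕ := [
  0x28154b042248040c4e0b8ec826103830c40e0803c6663269709e3f0d00cbe00228448e4012980b244260502a2e2d0dc4c181d0ac5e04288a424161a8f0400a1b014641b0f0e486210482c482d0689c32021412c3a382d8c07a3e040c48c53291503e56110b046132b974543425070bc48,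
  0x28154b042248040c4e0b8ec826103830c40e0803c6663269709e3f0d00cbe00228448e4012980b244260502a2e2d0dc4c181d0ac5e04288a424161a8f0400a1b014641b0f0e486210482c482d0689c32021412c3a382d8c07a3e040c48c53291503e56110b046132b974543425070bc48,
  0x2d8849e0e2a0a420323103c5e262c0287807319103c2d0c9203a600190ca4060b0042249260dc485f2005c4a311d0b8264a1a9548453138308e281d850585d048a8345719854302330814685e0007040511f9348239020d86059059149c022d0e01a5c1e95856220d848103e231403e4b,
  0x2996c464c20080580c3183c2857140286c5f1a1243802308443443000e0884e1880c2452250d4323f0d8101655178ec300e210586e211397078152c8e8a02d048a8bc30199607a4112020c41d009449a1e038a49e251f11c4c2e1c8188a5d2d1801a320995856052a1204417258408c1f,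
  0x8188c2422f8040c4e038ec66580b830aa0e2803c8253229708e3f259289200269189e440c980a240260507a1e2d0e872311b8246a1b2c8a470301789c402c118a86404170983a241584c422d068f04a021a06886122b8582a3e110602263291503e56040286c0b2d9740a2801870bc48]

/-- A word for the first generator. -/
def wa : List ℕ := [3, 0, 3, 3, 4, 2, 2, 0, 3, 4, 2, 2, 0, 3, 0, 2, 4, 2, 4]

/-- A word for the second generator. -/
def wb : List ℕ := [0, 2, 0, 2, 0, 4, 2, 2, 0, 2, 0, 2, 2, 4, 2, 2, 0, 3, 4, 3, 0, 4]

/-- A word for the third generator. -/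
def wc : List ℕ := [0, 3, 0, 2, 0, 2, 2, 4, 2, 0, 4, 2, 2, 4, 2, 0, 2, 4, 3, 3]

/-- A word for the outer symmetry. -/
def wsg : List ℕ := [2, 2, 4, 2, 2, 2, 4, 2, 2, 4, 2, 2, 0, 4, 3, 4, 3, 0, 3, 0, 2, 0]

end CfsgLib.HNMult
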