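import Mathlib

/-!
Central corrections of lifts of `z` and `t` in the presentation of the Harada–Norton group.
-/

set_option autoImplicit false

namespace CfsgLib.HNMult

/-- A group in which commuting `x`, `y` satisfy some of the relators without `t` has `x = y = 1`. -/
theorem eq_one_of_commute {K : Type*} [Group K] {X Y Z : K} (hc : Commute X Y)
    (h1 : Y ^ 6 = 1) (h2 : X * X * Y * X * X * Y⁻¹ = 1)
    (h4 : (X⁻¹ * Y * Y * X * Y * Y * Y) ^ 3 = 1) (h5 : (X * Y) ^ 8 = 1)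
    (h7 : Z * Z = 1) (h8 : Z * X * (Z * X) = 1)
    (h10 : Z * (Y⁻¹ * X⁻¹ * Y⁻¹ * X⁻¹ * Y⁻¹ * Y⁻¹ * Y⁻¹ * Z * Y * Y * Y * X * Y * X * Y * X) ^ 3 = 1) :
    X = 1 ∧ Y = 1 := by
  have hx4 : X ^ 4 = 1 := by
    have e : X * X * Y = Y * (X * X) := ((hc.mul_left hc)).eq
    rw [e] at h2
    calc X ^ 4 = Y⁻¹ * (Y * (X * X) * X * X * Y⁻¹) * Y := by simp [pow_succ, mul_assoc]
      _ = 1 := by rw [h2]; group
  have h15 : Y ^ 15 = 1 := by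
    have e : X⁻¹ * Y * Y * X = Y * Y := by
      rw [mul_assoc, mul_assoc, inv_mul_eq_iff_eq_mul, ← mul_assoc]
      exact ((hc.mul_right hc).eq).symm
    rw [e] at h4
    rw [← h4]; simp [pow_succ, mul_assoc]
  have h8y : Y ^ 8 = 1 := by
    rw [hc.mul_pow, show X ^ 8 = (X ^ 4) ^ 2 by group, hx4, one_pow, one_mul] at h5
    exact h5
  have hy : Y = 1 := by
    have e : Y ^ 16 = Y ^ 15 * Y := by group
    rw [h15, one_mul, show Y ^ 16 = (Y ^ 8) ^ 2 by group, h8y, one_pow] at e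
    exact e.symm
  subst hy
  refine ⟨?_, rfl⟩
  have hz : Z⁻¹ = Z := inv_eq_of_mul_eq_one_right h7
  have hzx : Z * X = X⁻¹ * Z := by
    calc Z * X = (Z * X * (Z * X)) * (X⁻¹ * Z⁻¹) := by group
      _ = X⁻¹ * Z := by rw [h8, one_mul, hz]
  have hx3 : Z * X ^ 3 = (X⁻¹) ^ 3 * Z := (show SemiconjBy Z X X⁻¹ from hzx).pow_right 3
  have e : X⁻¹ * X⁻¹ * Z * X ^ 3 = X⁻¹ * Z := by
    rw [mul_assoc _ Z, hx3]
    calc X⁻¹ * X⁻¹ * ((X⁻¹) ^ 3 * Z) = (X ^ 4)⁻¹ * (X⁻¹ * Z) := by group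
      _ = X⁻¹ * Z := by rw [hx4, inv_one, one_mul]
  have e2 : (X⁻¹ * Z) * (X⁻¹ * Z) = 1 := by
    rw [← hzx]; exact h8
  have h := h10
  simp only [inv_one, mul_one, one_mul] at h
  rw [show X⁻¹ * X⁻¹ * Z * X * X * X = X⁻¹ * X⁻¹ * Z * X ^ 3 by simp [pow_succ, mul_assoc], e, pow_succ, pow_two, e2,
    one_mul, ← hzx, ← mul_assoc, h7, one_mul] at h
  exact h

/-- Lifts of `z` and `t` can be multiplied by central elements so that the defects vanish. -/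
theorem exists_fix {Γ : Type*} [Group Γ] (A : Subgroup Γ) (hA : A ≤ Subgroup.center Γ)
    {X Y Z T c : Γ} (hX4 : X ^ 4 = 1) (h2 : X * X * Y * X * X * Y⁻¹ = 1) (hc : c ∈ A)
    (h7 : Z * Z = c) (h8 : Z * X * (Z * X) = c) (t5 : T ^ 5 ∈ A)
    (tx : X⁻¹ * T * X * (T * T) ∈ A) (ty : T⁻¹ * Y⁻¹ * T * Y ∈ A) (tz : (Z * T) ^ 3 ∈ A) :
    ∃ u ∈ A, ∃ v ∈ A, c * u ^ 2 = 1 ∧ (T * v) ^ 5 = 1 ∧
      X⁻¹ * (T * v) * X * ((T * v) * (T * v)) = 1 ∧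
      (T * v)⁻¹ * Y⁻¹ * (T * v) * Y = 1 ∧ (Z * u * (T * v)) ^ 3 = 1 := by
  have cen : ∀ {a : Γ}, a ∈ A → ∀ b, Commute a b := fun {a} ha b =>
    (Subgroup.mem_center_iff.1 (hA ha) b).symm
  obtain ⟨e1, he1⟩ : ∃ e, e = T ^ 5 := ⟨_, rfl⟩
  obtain ⟨e2, he2⟩ : ∃ e, e = X⁻¹ * T * X * (T * T) := ⟨_, rfl⟩
  rw [← he1] at t5
  rw [← he2] at tx
  have hrel : e1 ^ 3 = e2 ^ 5 := by
    have e : X⁻¹ * T * X = e2 * (T * T)⁻¹ := by rw [he2]; group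
    have e' : (X⁻¹ * T * X) ^ 5 = e1 := by
      calc (X⁻¹ * T * X) ^ 5 = X⁻¹ * (T ^ 5 * X) := by simp [pow_succ, mul_assoc]
        _ = e1 := by rw [← he1, (cen t5 X).eq, ← mul_assoc, inv_mul_cancel, one_mul]
    rw [e, (cen tx _).mul_pow, show ((T * T)⁻¹) ^ 5 = (e1⁻¹) ^ 2 by rw [he1]; group] at e'
    calc e1 ^ 3 = e1 * e1 ^ 2 := by group
      _ = e2 ^ 5 * e1⁻¹ ^ 2 * e1 ^ 2 := by rw [e']
      _ = e2 ^ 5 := by group
  obtain ⟨v, hv⟩ : ∃ v, v = e2⁻¹ ^ 2 * e1 := ⟨_, rfl⟩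
  have hvA : v ∈ A := hv ▸ mul_mem (pow_mem (inv_mem tx) 2) t5
  have h21 : Commute (e2⁻¹) e1 := (cen t5 _).symm
  have hv3 : v ^ 3 = e2⁻¹ := by
    rw [hv, (h21.pow_left 2).mul_pow, hrel]; group
  have hv5 : v ^ 5 = e1⁻¹ := by
    rw [hv, (h21.pow_left 2).mul_pow, show e1 ^ 5 = (e1 ^ 3) ^ 2 * e1⁻¹ by group, hrel]; group
  obtain ⟨S, hS⟩ : ∃ S, S = T * v := ⟨_, rfl⟩
  have s5 : S ^ 5 = 1 := by
    rw [hS, (cen hvA T).symm.mul_pow, hv5, ← he1, mul_inv_cancel]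
  have sx : X⁻¹ * S * X * (S * S) = 1 := by
    have c1 := (cen hvA X).eq
    have c2 := (cen hvA T).eq
    calc X⁻¹ * S * X * (S * S) = X⁻¹ * T * (v * X) * (T * v) * (T * v) := by
            rw [hS]; group
      _ = X⁻¹ * T * X * (v * T) * (v * T) * v := by rw [c1]; simp [pow_succ, mul_assoc]
      _ = X⁻¹ * T * X * T * T * v * v * v := by rw [c2]; simp only [← mul_assoc]; rw [mul_assoc (X⁻¹ * T * X * T) v T, c2, ← mul_assoc]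
      _ = e2 * v ^ 3 := by rw [he2]; simp [pow_succ, mul_assoc]
      _ = 1 := by rw [hv3, mul_inv_cancel]
  obtain ⟨d, hd⟩ : ∃ d, d = S⁻¹ * Y⁻¹ * S * Y := ⟨_, rfl⟩
  have hdA : d ∈ A := by
    have e : d = T⁻¹ * Y⁻¹ * T * Y := by
      calc d = v⁻¹ * (T⁻¹ * Y⁻¹ * T) * (v * Y) := by rw [hd, hS]; group
        _ = v⁻¹ * (T⁻¹ * Y⁻¹ * T) * (Y * v) := by rw [(cen hvA Y).eq]
        _ = v⁻¹ * ((T⁻¹ * Y⁻¹ * T * Y) * v) := by group
        _ = _ := by rw [← (cen hvA _).eq, ← mul_assoc, inv_mul_cancel, one_mul]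
    rw [e]; exact ty
  have hy : Y⁻¹ * S * Y = S * d := by rw [hd]; group
  have hd5 : d ^ 5 = 1 := by
    have e : (Y⁻¹ * S * Y) ^ 5 = 1 := by
      calc (Y⁻¹ * S * Y) ^ 5 = Y⁻¹ * S ^ 5 * Y := by simp [pow_succ, mul_assoc]
        _ = 1 := by rw [s5]; group
    rwa [hy, (cen hdA S).symm.mul_pow, s5, one_mul] at e
  have hxs : X⁻¹ * S * X = S ^ 3 := by
    calc X⁻¹ * S * X = (X⁻¹ * S * X * (S * S)) * (S * S)⁻¹ := by group
      _ = S ^ 5 * (S * S)⁻¹ := by rw [sx, s5]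
      _ = S ^ 3 := by group
  have hx2 : (X * X)⁻¹ * S * (X * X) = S⁻¹ := by
    calc (X * X)⁻¹ * S * (X * X) = X⁻¹ * (X⁻¹ * S * X) * X := by group
      _ = X⁻¹ * S ^ 3 * X := by rw [hxs]
      _ = (X⁻¹ * S * X) ^ 3 := by simp [pow_succ, mul_assoc]
      _ = (S ^ 5) ^ 2 * S⁻¹ := by rw [hxs]; group
      _ = S⁻¹ := by rw [s5]; group
  have hd1 : d = 1 := by
    have eY : X * X * Y * (X * X) = Y := by
      calc X * X * Y * (X * X) = (X * X * Y * X * X * Y⁻¹) * Y := by group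
        _ = Y := by rw [h2, one_mul]
    have e : S * d = d⁻¹ * S := by
      calc S * d = Y⁻¹ * S * Y := hy.symm
        _ = (X * X * Y * (X * X))⁻¹ * S * (X * X * Y * (X * X)) := by rw [eY]
        _ = (X * X)⁻¹ * (Y⁻¹ * ((X * X)⁻¹ * S * (X * X)) * Y) * (X * X) := by group
        _ = (X * X)⁻¹ * (Y⁻¹ * S * Y)⁻¹ * (X * X) := by rw [hx2]; group
        _ = (X * X)⁻¹ * (d⁻¹ * S⁻¹) * (X * X) := by rw [hy, mul_inv_rev (a := S)]
        _ = (X * X)⁻¹ * d⁻¹ * (X * X) * ((X * X)⁻¹ * S * (X * X))⁻¹ := by simp [pow_succ, mul_assoc]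
        _ = d⁻¹ * S := by
            rw [hx2, inv_inv, ← (cen (inv_mem hdA) (X * X)⁻¹).eq, inv_mul_cancel_right]
    rw [← (cen hdA S).eq, mul_left_inj] at e
    have e2' : d ^ 2 = 1 := by rw [pow_two]; nth_rw 2 [e]; exact mul_inv_cancel d
    calc d = d ^ 5 * (d ^ 2)⁻¹ ^ 2 := by group
      _ = 1 := by rw [hd5, e2']; group
  have hzx : X * Z * X = Z := by
    have e : Z * (X * Z * X) = Z * Z := by rw [h7, ← h8]; group
    exact mul_left_cancel e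
  have hz2 : (X * X)⁻¹ * Z * (X * X) = Z := by
    calc (X * X)⁻¹ * Z * (X * X) = (X ^ 4)⁻¹ * (X * (X * Z * X) * X) := by group
      _ = Z := by rw [hzx, hzx, hX4, inv_one, one_mul]
  obtain ⟨w, hw⟩ : ∃ w, w = (Z * S) ^ 3 := ⟨_, rfl⟩
  have hwA : w ∈ A := by
    rw [hw, hS, ← mul_assoc, (cen hvA _).symm.mul_pow]
    exact mul_mem tz (pow_mem hvA 3)
  have hrw : w ^ 2 = c ^ 3 := by
    have e1' : (Z * S⁻¹) ^ 3 = w := by
      calc (Z * S⁻¹) ^ 3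
          = ((X * X)⁻¹ * Z * (X * X) * ((X * X)⁻¹ * S * (X * X))) ^ 3 := by rw [hz2, hx2]
        _ = (X * X)⁻¹ * ((Z * S) ^ 3 * (X * X)) := by simp [pow_succ, mul_assoc]
        _ = w := by rw [← hw, (cen hwA _).eq, ← mul_assoc, inv_mul_cancel, one_mul]
    have e2' : (S * Z) ^ 3 = w := by
      calc (S * Z) ^ 3 = Z⁻¹ * ((Z * S) ^ 3 * Z) := by simp [pow_succ, mul_assoc]
        _ = w := by rw [← hw, (cen hwA _).eq, ← mul_assoc, inv_mul_cancel, one_mul]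
    have e3 : S * Z⁻¹ = S * Z * c⁻¹ := by rw [← h7]; group
    have e4 : w⁻¹ = w * (c⁻¹) ^ 3 := by
      calc w⁻¹ = ((Z * S⁻¹) ^ 3)⁻¹ := by rw [e1']
        _ = (S * Z⁻¹) ^ 3 := by rw [← inv_pow, mul_inv_rev, inv_inv]
        _ = _ := by rw [e3, (cen (inv_mem hc) _).symm.mul_pow, e2']
    calc w ^ 2 = w * (w * (c⁻¹) ^ 3) * c ^ 3 := by rw [inv_pow, pow_two]; group
      _ = c ^ 3 := by rw [← e4, mul_inv_cancel, one_mul]
  have hcw : Commute c w⁻¹ := cen hc _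
  refine ⟨c * w⁻¹, mul_mem hc (inv_mem hwA), v, hvA, ?_, by rw [← hS]; exact s5,
    by rw [← hS]; exact sx, by rw [← hS, ← hd]; exact hd1, ?_⟩
  · calc c * (c * w⁻¹) ^ 2 = c * (c ^ 2 * w⁻¹ ^ 2) := by rw [hcw.mul_pow]
      _ = c ^ 3 * (w ^ 2)⁻¹ := by group
      _ = 1 := by rw [hrw, mul_inv_cancel]
  · rw [← hS]
    have hu : ∀ b, Commute (c * w⁻¹) b := cen (mul_mem hc (inv_mem hwA))
    calc (Z * (c * w⁻¹) * S) ^ 3 = (Z * S * (c * w⁻¹)) ^ 3 := by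
            rw [mul_assoc, (hu S).eq, ← mul_assoc]
      _ = w * (c ^ 3 * w⁻¹ ^ 3) := by rw [(hu _).symm.mul_pow, hcw.mul_pow, ← hw]
      _ = c ^ 3 * (w ^ 2)⁻¹ := by
            rw [← mul_assoc, ← (cen (pow_mem hc 3) w).eq]; group
      _ = 1 := by rw [hrw, mul_inv_cancel]

end CfsgLib.HNMult
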