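import Cfsg.Agent.HNCert.Sep
import Cfsg.Agent.HNMult.Data
import Cfsg.Agent.HNMult.Norm
import Cfsg.Agent.GraphMult.HS

/-!
The derived group of `P` is perfect and maps onto the Higman–Sims group with central kernel of
order two.
-/

set_option autoImplicit false
set_option Elab.async false
set_option maxRecDepth 100000

namespace CfsgLib.HNMult

open CfsgLib.HNCert CfsgLib.CosetEnum CfsgLib.GraphPerm
open CfsgLib.GraphPerm.HSModel (data)
open Equiv (Perm)
open scoped commutatorElement

noncomputable section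

/-- The derived group of `P`. -/
abbrev Q : Subgroup P := commutator P

theorem rel_in {K : Type*} [Group K] (f : P →* K) :
    ∀ w ∈ relP, prodw (val (f (pg 0)) (f (pg 2)) (f (pg 4)) 1) w = 1 := by
  intro w hw
  have h := congrArg f (pg_rel w hw)
  rw [map_prodw, map_one] at h
  refine Eq.trans ?_ h
  refine prodw_congr fun i _ => ?_
  rw [show pg i = val (PresentedGroup.of PGen.x) (PresentedGroup.of PGen.y)
    (PresentedGroup.of PGen.z) 1 i from rfl, map_val, map_one]
  rfl

/-- An image of `P` in which the images of `x` and `y` commute kills both. -/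
theorem map_eq_one {K : Type*} [Group K] (f : P →* K) (hc : Commute (f (pg 0)) (f (pg 2))) :
    f (pg 0) = 1 ∧ f (pg 2) = 1 := by
  have h := rel_in f
  simp only [relP, List.mem_cons, List.not_mem_nil, or_false, forall_eq_or_imp, forall_eq] at h
  obtain ⟨h1, h2, -, h4, h5, -, h7, h8, -, h10⟩ := h
  simp only [prodw, List.map_cons, List.map_nil, List.prod_cons, List.prod_nil, val, mul_one]
    at h1 h2 h4 h5 h7 h8 h10
  refine eq_one_of_commute hc (Z := f (pg 4)) ?_ ?_ ?_ ?_ h7 ?_ ?_
  · simpa [pow_succ, mul_assoc] using h1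
  · simpa [mul_assoc] using h2
  · simpa [pow_succ, mul_assoc] using h4
  · simpa [pow_succ, mul_assoc] using h5
  · simpa [mul_assoc] using h8
  · simpa [pow_succ, mul_assoc] using h10

theorem xy_mem : pg 0 ∈ Q ∧ pg 2 ∈ Q := by
  have h := map_eq_one (Abelianization.of : P →* Abelianization P) (Commute.all _ _)
  show pg 0 ∈ commutator P ∧ pg 2 ∈ commutator P
  rw [← Abelianization.ker_of]
  exact h

/-- `P` is generated by its derived group and `z`. -/
theorem range_eq {K : Type*} [Group K] (f : P →* K) (g : P) :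
    ∃ q ∈ Q, f g = f q ∨ f g = f q * f (pg 4) := by
  have hz : pg 4 * pg 4 = 1 := by
    simpa [prodw] using pg_rel [4, 4] (by simp [relP])
  have hg : g ∈ (⊤ : Subgroup P) := Subgroup.mem_top g
  rw [← PresentedGroup.closure_range_of] at hg
  suffices h : ∃ q ∈ Q, g = q ∨ g = q * pg 4 by
    obtain ⟨q, hq, h | h⟩ := h
    · exact ⟨q, hq, Or.inl (by rw [h])⟩
    · exact ⟨q, hq, Or.inr (by rw [h, map_mul])⟩
  induction hg using Subgroup.closure_induction with
  | mem a ha =>
    obtain ⟨j, rfl⟩ := ha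
    cases j
    · exact ⟨_, xy_mem.1, Or.inl rfl⟩
    · exact ⟨_, xy_mem.2, Or.inl rfl⟩
    · exact ⟨1, one_mem _, Or.inr (one_mul _).symm⟩
  | one => exact ⟨1, one_mem _, Or.inl rfl⟩
  | inv a _ ha =>
    obtain ⟨q, hq, e | e⟩ := ha
    · exact ⟨_, inv_mem hq, Or.inl (by rw [e])⟩
    · refine ⟨pg 4 * q⁻¹ * (pg 4)⁻¹, Subgroup.Normal.conj_mem inferInstance _ (inv_mem hq) _,
        Or.inr ?_⟩
      rw [e, inv_mul_cancel_right, mul_inv_rev, inv_eq_of_mul_eq_one_right hz]
  | mul a b _ _ ha hb =>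
    obtain ⟨q, hq, e | e⟩ := ha <;> obtain ⟨r, hr, e' | e'⟩ := hb
    · exact ⟨_, mul_mem hq hr, Or.inl (by rw [e, e'])⟩
    · exact ⟨_, mul_mem hq hr, Or.inr (by rw [e, e', mul_assoc])⟩
    · refine ⟨q * (pg 4 * r * (pg 4)⁻¹),
        mul_mem hq (Subgroup.Normal.conj_mem inferInstance _ hr _), Or.inr ?_⟩
      rw [e, e']; group
    · refine ⟨q * (pg 4 * r * (pg 4)⁻¹),
        mul_mem hq (Subgroup.Normal.conj_mem inferInstance _ hr _), Or.inl ?_⟩
      rw [e, e', inv_eq_of_mul_eq_one_right hz]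
      group

theorem perfect : ⁅Q, Q⁆ = Q := by
  refine le_antisymm (Subgroup.commutator_le_self _) ?_
  let f := QuotientGroup.mk' ⁅Q, Q⁆
  have hc : Commute (f (pg 0)) (f (pg 2)) := by
    refine (QuotientGroup.eq.2 ?_).symm
    have h := Subgroup.commutator_mem_commutator (inv_mem xy_mem.1) (inv_mem xy_mem.2)
    simpa [commutatorElement_def, mul_assoc] using h
  obtain ⟨hx, hy⟩ := map_eq_one f hc
  have hab : ∀ a b : P, Commute (f a) (f b) := by
    have hgen : ∀ a : P, ∃ k : ℤ, f a = f (pg 4) ^ k := by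
      intro a
      have ha : a ∈ (⊤ : Subgroup P) := Subgroup.mem_top a
      rw [← PresentedGroup.closure_range_of] at ha
      induction ha using Subgroup.closure_induction with
      | mem a ha =>
        obtain ⟨j, rfl⟩ := ha
        cases j
        · exact ⟨0, by rw [zpow_zero]; exact hx⟩
        · exact ⟨0, by rw [zpow_zero]; exact hy⟩
        · exact ⟨1, (zpow_one _).symm⟩
      | one => exact ⟨0, by simp⟩
      | inv a _ ha => obtain ⟨k, e⟩ := ha; exact ⟨-k, by rw [map_inv, e, zpow_neg]⟩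
      | mul a b _ _ ha hb =>
        obtain ⟨k, e⟩ := ha; obtain ⟨l, e'⟩ := hb
        exact ⟨k + l, by rw [map_mul, e, e', zpow_add]⟩
    intro a b
    obtain ⟨k, e⟩ := hgen a
    obtain ⟨l, e'⟩ := hgen b
    rw [e, e']
    exact Commute.zpow_zpow_self _ k l
  rw [Q, commutator_def, Subgroup.commutator_le]
  intro a _ b _
  rw [← QuotientGroup.eq_one_iff]
  show f ⁅a, b⁆ = 1
  rw [map_commutatorElement, commutatorElement_eq_one_iff_commute]
  exact hab a b

theorem tabs_ok : tabs.all (permOK 100) = true := by decide +kernel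

theorem iv_ok : wordEq 100 tabs [1, 0] [] = true ∧ wordEq 100 tabs [3, 2] [] = true := by
  decide +kernel

theorem rel_ok : relP.all (fun w => wordEq 100 tabs w []) = true := by decide +kernel

theorem gen_ok : wordEq 100 (tabs ++ [data.a]) wa [5] = true ∧
    wordEq 100 (tabs ++ [data.b]) wb [5] = true ∧ wordEq 100 (tabs ++ [data.c]) wc [5] = true ∧
    wordEq 100 (tabs ++ [data.sg]) wsg [5] = true ∧ permOK 100 data.a = true ∧
    permOK 100 data.b = true ∧ permOK 100 data.c = true ∧ permOK 100 data.sg = true := by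
  decide +kernel

theorem square_ok : wordEq 100 tabs [0, 0] [] = true := by decide +kernel

/-- The action of `P` on 100 points, seen through the tables. -/
theorem exists_pi : ∃ (π : P →* Perm (Fin 100)), HasTabs tabs (fun i => π (pg i)) := by
  have hl : tabs.length = 5 := rfl
  have hex : ∀ i, ∃ σ : Perm (Fin 100), i < 5 → IsTab σ (tabs.getD i 0) := by
    intro i
    by_cases hi : i < 5
    · obtain ⟨σ, hσ⟩ := exists_isTab (n := 100) (t := tabs.getD i 0) (by
        rw [List.getD_eq_getElem _ _ (hl ▸ hi)]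
        exact List.all_eq_true.1 tabs_ok _ (List.getElem_mem _))
      exact ⟨σ, fun _ => hσ⟩
    · exact ⟨1, fun h => absurd h hi⟩
  choose s hs using hex
  have hS : HasTabs tabs s := fun i hi => hs i (hl ▸ hi)
  have inv : s 1 = (s 0)⁻¹ ∧ s 3 = (s 2)⁻¹ := by
    constructor
    · have h := (wordEq_iff hS (by decide) (by simp)).1 iv_ok.1
      simp [wval] at h
      exact eq_inv_of_mul_eq_one_left h
    · have h := (wordEq_iff hS (by decide) (by simp)).1 iv_ok.2
      simp [wval] at h
      exact eq_inv_of_mul_eq_one_left h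
  have hval : ∀ i < 5, val (s 0) (s 2) (s 4) 1 i = s i := by
    intro i hi
    interval_cases i
    exacts [rfl, inv.1.symm, rfl, inv.2.symm, rfl]
  have hlt : ∀ w ∈ relP, ∀ i ∈ w, i < 5 := by decide +kernel
  obtain ⟨π, hπ⟩ := exists_lift (s 0) (s 2) (s 4) fun w hw => by
    rw [prodw_congr fun i hi => hval i (hlt w hw i hi)]
    have h := (wordEq_iff hS (hlt w hw) (by simp)).1 (List.all_eq_true.1 rel_ok w hw)
    simpa [wval, prodw] using h
  exact ⟨π, fun i hi => by
    show IsTab (π (pg i)) _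
    rw [hπ, hval i (hl ▸ hi)]; exact hS i hi⟩

theorem inTab_word {π : P →* Perm (Fin 100)} (hπ : HasTabs tabs (fun i => π (pg i))) {t : ℕ}
    {w : List ℕ} (hp : permOK 100 t = true) (hw : ∀ a ∈ w, a < 5)
    (h : wordEq 100 (tabs ++ [t]) w [5] = true) : InTab π.range t := by
  obtain ⟨σ, hσ⟩ := exists_isTab (n := 100) hp
  let x : ℕ → Perm (Fin 100) := fun i => if i < 5 then π (pg i) else σ
  have hx : HasTabs (tabs ++ [t]) x := by
    intro i hi
    by_cases h5 : i < 5
    · simp only [x, if_pos h5]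
      rw [List.getD_append _ _ _ _ (show i < tabs.length from h5)]
      exact hπ i h5
    · obtain rfl : i = 5 := by
        have hl : (tabs ++ [t]).length = 6 := rfl
        omega
      simp only [x, if_neg h5]
      exact hσ
  have hl6 : (tabs ++ [t]).length = 6 := rfl
  have e := (wordEq_iff hx (fun a ha => by rw [hl6]; exact (hw a ha).trans (by norm_num))
    (by simp [hl6])).1 h
  refine ⟨σ, ?_, hσ⟩
  have e5 : wval x [5] = σ := by simp [wval, x]
  rw [← e5, ← e]
  exact list_prod_mem fun a ha => by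
    obtain ⟨i, hi, rfl⟩ := List.mem_map.1 ha
    simp only [x, if_pos (hw i hi)]
    exact ⟨_, rfl⟩

theorem same_ok : same [0, 0, 2] [2, 0, 0] = true ∧ same [0, 0, 4] [4, 0, 0] = true ∧
    same [0, 0] [] = false ∧ same [0, 0, 0, 0] [] = true := by decide +kernel

theorem x_pow_four (hB : Bound) : pg 0 * pg 0 * pg 0 * pg 0 = 1 := by
  simpa [prodw, mul_assoc] using eq_of_same hB (by decide) (by simp) same_ok.2.2.2

theorem xx_ne_one (hB : Bound) : pg 0 * pg 0 ≠ 1 := by
  intro h
  have hs := same_ok.2.2.1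
  have e : ∀ p, p < 1408 → walk [0, 0] p = walk [] p := by
    intro p hp
    have h1 := mv_prodw (w := [0, 0]) (by decide) (pt p)
    have h2 := mv_prodw (w := []) (by simp) (pt p)
    rw [show prodw pg [0, 0] = pg 0 * pg 0 by simp [prodw], h] at h1
    rw [prodw_nil] at h2
    rw [pt_val hp] at h1 h2
    rw [← h1, ← h2]
  rw [same, walk4_eq, walk4_eq, e 0 (by norm_num), e 208 (by norm_num), e 252 (by norm_num),
    e 1336 (by norm_num)] at hs
  simp [Nat.beq_refl] at hs

theorem xx_central (hB : Bound) : pg 0 * pg 0 ∈ Subgroup.center P := by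
  rw [Subgroup.mem_center_iff]
  intro g
  have hg : g ∈ (⊤ : Subgroup P) := Subgroup.mem_top g
  rw [← PresentedGroup.closure_range_of] at hg
  refine (show Commute g (pg 0 * pg 0) from ?_)
  induction hg using Subgroup.closure_induction with
  | mem a ha =>
    obtain ⟨j, rfl⟩ := ha
    cases j
    · exact ((Commute.refl (pg 0)).mul_right (Commute.refl _) :)
    · have h := eq_of_same hB (by decide) (by decide) same_ok.1
      simp [prodw, mul_assoc] at h
      show pg 2 * (pg 0 * pg 0) = pg 0 * pg 0 * pg 2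
      rw [mul_assoc, h]
    · have h := eq_of_same hB (by decide) (by decide) same_ok.2.1
      simp [prodw, mul_assoc] at h
      show pg 4 * (pg 0 * pg 0) = pg 0 * pg 0 * pg 4
      rw [mul_assoc, h]
  | one => exact Commute.one_left _
  | inv a _ ha => exact ha.inv_left
  | mul a b _ _ ha hb => exact ha.mul_left hb

/-- The derived group of `P` is a central extension of HS by a group of order two. -/
theorem exists_to_HS (hB : Bound) : ∃ f : Q →* Cfsg.Spor.HS, Function.Surjective f ∧
    Nat.card f.ker = 2 ∧ ∀ q ∈ f.ker, (q : P) ∈ Subgroup.center P := by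
  have := hB.1
  obtain ⟨π, hπ⟩ := exists_pi
  obtain ⟨hfin, hle⟩ := HSModel.natCard_le
  obtain ⟨ρ, hgens, hout⟩ : ∃ ρ : Cfsg.Spor.HS →* Perm (Fin 100), (∀ t ∈ data.gens, InTab ρ.range t) ∧
      ∀ σ : Perm (Fin 100), IsTab σ data.sg → σ ∉ ρ.range := HSModel.exists_rho
  obtain ⟨R, hR⟩ : ∃ R : Subgroup (Perm (Fin 100)), R = π.range := ⟨_, rfl⟩
  have hlt : (∀ a ∈ wa, a < 5) ∧ (∀ a ∈ wb, a < 5) ∧ (∀ a ∈ wc, a < 5) ∧ (∀ a ∈ wsg, a < 5) := by
    decide +kernel
  obtain ⟨ga, gb, gc, gs, pa, pb, pc, ps⟩ := gen_ok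
  have hgR : ∀ t ∈ data.gens, InTab R t := by
    simp only [RData.gens, List.mem_cons, List.not_mem_nil, or_false, forall_eq_or_imp, forall_eq]
    exact hR ▸ ⟨inTab_word hπ pa hlt.1 ga, inTab_word hπ pb hlt.2.1 gb,
      inTab_word hπ pc hlt.2.2.1 gc⟩
  have hN : data.p * data.N = 44352000 := by decide +kernel
  have hup : Nat.card ρ.range ≤ data.p * data.N :=
    (Nat.card_le_card_of_surjective _ ρ.rangeRestrict_surjective).trans hle
  have hK : Nat.card ρ.range = 44352000 := by
    have h : data.p * data.N ≤ Nat.card ρ.range :=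
      GraphMult.inTab_strong (D := data) (K := ρ.range) HSModel.normOK HSModel.orderOK hgens
    rw [hN] at h hup
    omega
  have hinf : ∀ t ∈ data.gens, InTab (R ⊓ ρ.range) t := by
    intro t ht
    obtain ⟨σ, hσ, rσ⟩ := hgR t ht
    obtain ⟨τ, hτ, rτ⟩ := hgens t ht
    exact ⟨σ, ⟨hσ, (rσ.unique rτ) ▸ hτ⟩, rσ⟩
  have hKR : ρ.range ≤ R := by
    have h : data.p * data.N ≤ Nat.card (R ⊓ ρ.range : Subgroup (Perm (Fin 100))) :=
      GraphMult.inTab_strong (D := data) (K := R ⊓ ρ.range) HSModel.normOK HSModel.orderOK hinf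
    rw [hN] at h
    have e : R ⊓ ρ.range = ρ.range := Subgroup.eq_of_le_of_card_ge inf_le_right (by omega)
    exact e ▸ inf_le_left
  obtain ⟨σ, hσR, hσ⟩ := (hR ▸ inTab_word hπ ps hlt.2.2.2 gs : InTab R data.sg)
  have hxx : π (pg 0 * pg 0) = 1 := by
    have h := (wordEq_iff hπ (by decide) (by simp)).1 square_ok
    simpa [wval] using h
  have hker : 2 ≤ Nat.card π.ker := by
    rw [Nat.succ_le_iff, Finite.one_lt_card_iff_nontrivial, Subgroup.nontrivial_iff_exists_ne_one]
    exact ⟨_, hxx, xx_ne_one hB⟩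
  have hP : Nat.card π.ker * Nat.card R = 177408000 := by
    rw [← card_P hB, ← Subgroup.card_mul_index π.ker, Subgroup.index_ker, hR]
  obtain ⟨K, hKdef⟩ : ∃ K : Subgroup R, K = ρ.range.subgroupOf R := ⟨_, rfl⟩
  have hKc : Nat.card K = 44352000 := by
    rw [hKdef, Nat.card_congr (Subgroup.subgroupOfEquivOfLe hKR).toEquiv, hK]
  have hRK := Subgroup.card_mul_index K
  rw [hKc] at hRK
  have hi1 : K.index ≠ 1 := by
    rw [Ne, Subgroup.index_eq_one]
    intro h
    have : (⟨σ, hσR⟩ : R) ∈ K := h ▸ Subgroup.mem_top _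
    rw [hKdef] at this
    exact hout σ hσ this
  have hi0 : K.index ≠ 0 := Subgroup.index_ne_zero_of_finite
  have hRle : Nat.card R ≤ 88704000 := by nlinarith
  have hi2 : K.index = 2 := by omega
  have hker2 : Nat.card π.ker = 2 := by
    rw [← hRK, hi2] at hP
    omega
  have hKn : K.Normal := Subgroup.normal_of_index_eq_two hi2
  have hcomm : Q.map π ≤ ρ.range := by
    rw [Q, map_commutator_eq, ← hR, Subgroup.commutator_le]
    intro a ha b hb
    have h : ⁅(⟨a, ha⟩ : R), ⟨b, hb⟩⁆ ∈ K := by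
      haveI : IsCyclic (R ⧸ K) := isCyclic_of_prime_card (p := 2) (by
        rw [← Subgroup.index_eq_card, hi2])
      have hh : ⁅QuotientGroup.mk' K ⟨a, ha⟩, QuotientGroup.mk' K ⟨b, hb⟩⁆ = 1 :=
        commutatorElement_eq_one_iff_commute.2 ((IsCyclic.commGroup (α := R ⧸ K)).mul_comm _ _)
      rwa [← map_commutatorElement, QuotientGroup.mk'_apply, QuotientGroup.eq_one_iff] at hh
    rw [hKdef] at h
    exact h
  have hz : (pg 4 : P) * pg 4 = 1 := by
    simpa [prodw] using pg_rel [4, 4] (by simp [relP])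
  have himage : Nat.card R ≤ 2 * Nat.card (Q.map π) := by
    have hsurj : Function.Surjective
        (fun p : Fin 2 × Q.map π => (⟨(p.2 : Perm (Fin 100)) * π (pg 4) ^ (p.1 : ℕ), by
          rw [hR]
          obtain ⟨q, -, e⟩ := p.2.2
          rw [← e]
          exact mul_mem (MonoidHom.mem_range.2 ⟨_, rfl⟩) (pow_mem (MonoidHom.mem_range.2 ⟨_, rfl⟩) _)⟩ : R)) := by
      rintro ⟨r, hr⟩
      rw [hR] at hr
      obtain ⟨g, rfl⟩ := hr
      obtain ⟨q, hq, e | e⟩ := range_eq π g
      · exact ⟨(0, ⟨π q, Subgroup.mem_map_of_mem π hq⟩), Subtype.ext (by simp [e])⟩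
      · exact ⟨(1, ⟨π q, Subgroup.mem_map_of_mem π hq⟩), Subtype.ext (by simp [e])⟩
    refine (Nat.card_le_card_of_surjective _ hsurj).trans (le_of_eq ?_)
    rw [Nat.card_prod, Nat.card_fin]
  have hK' : Nat.card ρ.range ≤ Nat.card (Q.map π) := by
    refine hK.trans_le ?_
    omega
  have hmap : Q.map π = ρ.range := Subgroup.eq_of_le_of_card_ge hcomm hK'
  have hbij : Function.Bijective ρ.rangeRestrict :=
    (Nat.bijective_iff_surjective_and_card _).2 ⟨ρ.rangeRestrict_surjective, by
      have := Nat.card_le_card_of_surjective _ ρ.rangeRestrict_surjective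
      have : 11 * data.N = 44352000 := by decide +kernel
      omega⟩
  obtain ⟨f0, hf0⟩ : ∃ f0 : Q →* ρ.range, ∀ q, (f0 q : Perm (Fin 100)) = π q :=
    ⟨(π.comp Q.subtype).codRestrict _ (fun q => hmap ▸ Subgroup.mem_map_of_mem π q.2), fun _ => rfl⟩
  let e := MulEquiv.ofBijective ρ.rangeRestrict hbij
  refine ⟨e.symm.toMonoidHom.comp f0, e.symm.surjective.comp ?_, ?_, ?_⟩
  · rintro ⟨r, hr⟩
    rw [← hmap] at hr
    obtain ⟨q, hq, rfl⟩ := hr
    exact ⟨⟨q, hq⟩, Subtype.ext (hf0 _)⟩
  all_goals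
    have hk : ∀ q : Q, q ∈ (e.symm.toMonoidHom.comp f0).ker ↔ π (q : P) = 1 := fun q => by
      rw [MonoidHom.mem_ker, MonoidHom.comp_apply, MulEquiv.coe_toMonoidHom,
        MulEquiv.map_eq_one_iff, ← Subtype.coe_inj, hf0]
      rfl
    have hset : ∀ g : P, π g = 1 → g = 1 ∨ g = pg 0 * pg 0 := by
      intro g hg
      obtain ⟨u, v, huv, hall⟩ := Nat.card_eq_two_iff.1 hker2
      by_contra hne
      push Not at hne
      have hx1 := xx_ne_one hB
      have m1 : (1 : π.ker) ∈ ({u, v} : Set π.ker) := hall ▸ Set.mem_univ _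
      have m2 : (⟨pg 0 * pg 0, hxx⟩ : π.ker) ∈ ({u, v} : Set π.ker) := hall ▸ Set.mem_univ _
      have m3 : (⟨g, hg⟩ : π.ker) ∈ ({u, v} : Set π.ker) := hall ▸ Set.mem_univ _
      simp only [Set.mem_insert_iff, Set.mem_singleton_iff] at m1 m2 m3
      rcases m1 with a | a <;> rcases m2 with b | b <;> rcases m3 with c | c <;>
        first
          | exact hx1 (congrArg Subtype.val (b.trans a.symm))
          | exact hne.1 (congrArg Subtype.val (c.trans a.symm))
          | exact hne.2 (congrArg Subtype.val (c.trans b.symm))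
  · have hxq : (pg 0 * pg 0 : P) ∈ Q := mul_mem xy_mem.1 xy_mem.1
    rw [Nat.card_eq_two_iff]
    refine ⟨1, ⟨⟨_, hxq⟩, (hk _).2 hxx⟩, fun h => xx_ne_one hB ?_, ?_⟩
    · exact (congrArg (fun z : (e.symm.toMonoidHom.comp f0).ker => ((z : Q) : P)) h).symm
    · ext ⟨q, hq⟩
      simp only [Set.mem_insert_iff, Set.mem_singleton_iff, Set.mem_univ, iff_true]
      rcases hset q ((hk q).1 hq) with h | h
      · exact Or.inl (Subtype.ext (Subtype.ext h))
      · exact Or.inr (Subtype.ext (Subtype.ext h))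
  · intro q hq
    rcases hset q ((hk q).1 hq) with h | h
    · rw [h]; exact one_mem _
    · rw [h]; exact xx_central hB

end

end CfsgLib.HNMult
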