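import Cfsg.Agent.HNMult.Split
import Cfsg.Agent.HNCert.Upper
import Cfsg.Agent.Schur.Basic

/-!
The Schur multiplier of the Harada–Norton group is trivial, given the bound on `P`.
-/

set_option autoImplicit false
set_option maxRecDepth 100000

namespace CfsgLib.HNMult

open CfsgLib.HNCert CfsgLib.CosetEnum
open scoped commutatorElement

theorem val_map {K L : Type*} [Group K] [Group L] (φ : K →* L) (x y z t : K) (w : List ℕ) :
    φ (prodw (val x y z t) w) = prodw (val (φ x) (φ y) (φ z) (φ t)) w := by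
  rw [map_prodw]
  exact prodw_congr fun i _ => map_val φ x y z t i

/-- A central factor on `z` comes out with the number of letters `z`. -/
theorem prodw_shift {K : Type*} [Group K] {x y z u : K} (hu : ∀ b : K, Commute u b) :
    ∀ w : List ℕ, (∀ i ∈ w, i < 5) →
      prodw (val x y (z * u) 1) w = prodw (val x y z 1) w * u ^ w.count 4
  | [], _ => by simp [prodw]
  | i :: w, h => by
    rw [prodw_cons, prodw_cons, prodw_shift hu w fun j hj => h j (List.mem_cons_of_mem i hj)]
    have hi := h i List.mem_cons_self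
    interval_cases i
    all_goals simp only [List.count_cons, beq_self_eq_true, if_true, val]
    all_goals try simp [mul_assoc]
    rw [pow_succ', ← mul_assoc u, (hu _).eq]
    simp [mul_assoc]

theorem count_ok : ∀ w ∈ relP, w.count 4 = 2 * (w.count 4 / 2) ∧ ∀ i ∈ w, i < 5 := by decide +kernel

/-- The multiplier of the Harada–Norton group is trivial, given the bound. -/
theorem stem_ker_eq_bot (hB : Bound) (Γ : Type) [Group Γ] [Finite Γ] (σ : Γ →* Cfsg.Spor.HN)
    (hσ : Cfsg.IsStemExtension σ) : σ.ker = ⊥ := by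
  have := hB.1
  obtain ⟨hs, hc, hd⟩ := hσ
  obtain ⟨E, hE⟩ : ∃ E : Subgroup (Γ × P),
      E = (σ.comp (MonoidHom.fst Γ P)).eqLocus (emb.comp (MonoidHom.snd Γ P)) := ⟨_, rfl⟩
  have memE : ∀ p : Γ × P, p ∈ E ↔ σ p.1 = emb p.2 := fun p => by rw [hE]; rfl
  obtain ⟨φ, hφ⟩ : ∃ φ : E →* P, ∀ e : E, φ e = (e : Γ × P).2 :=
    ⟨(MonoidHom.snd Γ P).comp E.subtype, fun _ => rfl⟩
  obtain ⟨ψ, hψ⟩ : ∃ ψ : E →* Γ, ∀ e : E, ψ e = (e : Γ × P).1 :=
    ⟨(MonoidHom.fst Γ P).comp E.subtype, fun _ => rfl⟩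
  have hφs : Function.Surjective φ := fun p => by
    obtain ⟨γ, hγ⟩ := hs (emb p)
    exact ⟨⟨(γ, p), (memE _).2 hγ⟩, hφ _⟩
  have hψk : ∀ e : E, φ e = 1 → σ (ψ e) = 1 := fun e he => by
    rw [hψ, (memE e.1).1 e.2, ← hφ, he, map_one]
  have hφc : φ.ker ≤ Subgroup.center E := fun e he => by
    rw [Subgroup.mem_center_iff]
    intro d
    refine Subtype.ext (Prod.ext ?_ ?_)
    · show ((d : Γ × P).1 * (e : Γ × P).1) = _
      rw [← hψ e]
      exact (Subgroup.mem_center_iff.1 (hc (hψk e he)) _).trans (by rw [hψ]; rfl)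
    · show ((d : Γ × P).2 * (e : Γ × P).2) = (e : Γ × P).2 * (d : Γ × P).2
      rw [← hφ e, MonoidHom.mem_ker.1 he, one_mul, mul_one]
  have hAD := split hB φ hφs hφc
  have inj : ∀ e, φ e = 1 → e ∈ commutator E → e = 1 := fun e h h' =>
    Subgroup.mem_bot.1 (hAD ▸ (⟨h, h'⟩ : e ∈ φ.ker ⊓ commutator E))
  have hmapc : (commutator E).map φ = Q := by
    rw [map_commutator_eq, MonoidHom.range_eq_top.2 hφs, Q, commutator_def]
  obtain ⟨X, hX, hX'⟩ := (hmapc.symm ▸ xy_mem.1 : pg 0 ∈ (commutator E).map φ)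
  obtain ⟨Y, hY, hY'⟩ := (hmapc.symm ▸ xy_mem.2 : pg 2 ∈ (commutator E).map φ)
  obtain ⟨Z, hZ'⟩ := hφs (pg 4)
  obtain ⟨c, hc'⟩ : ∃ c, c = Z * Z := ⟨_, rfl⟩
  have hcφ : φ c = 1 := by
    rw [hc', map_mul, hZ']
    simpa [prodw] using pg_rel [4, 4] (by simp [relP])
  have hval : ∀ w ∈ relP, prodw (val X Y Z 1) w = c ^ (w.count 4 / 2) := by
    intro w hw
    obtain ⟨hev, hlt⟩ := count_ok w hw
    have h1 : φ (prodw (val X Y Z 1) w) = 1 := by
      rw [val_map, hX', hY', hZ', map_one, ← pg_rel w hw]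
      refine prodw_congr fun i hi => ?_
      have := hlt i hi
      interval_cases i <;> rfl
    let q := (Abelianization.of : E →* Abelianization E)
    have hq0 : ∀ a ∈ commutator E, q a = 1 := fun a ha => by
      rw [← MonoidHom.mem_ker, Abelianization.ker_of]; exact ha
    have h2 : q (prodw (val X Y Z 1) w) = q (c ^ (w.count 4 / 2)) := by
      rw [val_map, hq0 X hX, hq0 Y hY, map_one]
      conv_lhs => rw [← one_mul (q Z)]
      rw [prodw_shift (fun b => Commute.all _ b) w hlt]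
      have h0 : prodw (val (1 : Abelianization E) 1 1 1) w = 1 := by
        refine List.prod_eq_one fun a ha => ?_
        obtain ⟨i, hi, rfl⟩ := List.mem_map.1 ha
        have := hlt i hi
        interval_cases i <;> simp [val]
      rw [h0, one_mul, map_pow, hc', map_mul, ← pow_two, ← pow_mul]
      conv_lhs => rw [hev]
    refine mul_inv_eq_one.1 (inj _ ?_ ?_)
    · rw [map_mul, h1, map_inv, map_pow, hcφ, one_pow, inv_one, one_mul]
    · rw [← Abelianization.ker_of, MonoidHom.mem_ker, map_mul, map_inv]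
      exact mul_inv_eq_one.2 h2
  have hX4 : X ^ 4 = 1 := by
    refine inj _ ?_ (pow_mem hX 4)
    rw [map_pow, hX']
    simpa [pow_succ] using x_pow_four hB
  have hv : ∀ w ∈ relP, prodw (val (ψ X) (ψ Y) (ψ Z) 1) w = ψ c ^ (w.count 4 / 2) := fun w hw => by
    rw [← map_pow, ← hval w hw, val_map, map_one]
  have hX2 : ψ X * ψ X * ψ Y * ψ X * ψ X * (ψ Y)⁻¹ = 1 := by
    have h := hv [0, 0, 2, 0, 0, 3] (by simp [relP])
    simpa [prodw, val, mul_assoc] using h
  have h7 : ψ Z * ψ Z = ψ c := by rw [hc', map_mul]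
  have h8 : ψ Z * ψ X * (ψ Z * ψ X) = ψ c := by
    have h := hv [4, 0, 4, 0] (by simp [relP])
    simpa [prodw, val, mul_assoc] using h
  obtain ⟨T, hT⟩ := hs (g 5)
  have hg : σ (ψ X) = g 0 ∧ σ (ψ Y) = g 2 ∧ σ (ψ Z) = g 4 := by
    refine ⟨?_, ?_, ?_⟩
    · rw [hψ, (memE X.1).1 X.2, ← hφ, hX', emb_pg (by norm_num)]
    · rw [hψ, (memE Y.1).1 Y.2, ← hφ, hY', emb_pg (by norm_num)]
    · rw [hψ, (memE Z.1).1 Z.2, ← hφ, hZ', emb_pg (by norm_num)]
  have r5 := g_rel [5, 5, 5, 5, 5] (by simp [relT])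
  have rx := g_rel [1, 5, 0, 5, 5] (by simp [relT])
  have ry := g_rel [6, 3, 5, 2] (by simp [relT])
  have rz := g_rel [4, 5, 4, 5, 4, 5] (by simp [relT])
  simp only [prodw, List.map_cons, List.map_nil, List.prod_cons, List.prod_nil, mul_one]
    at r5 rx ry rz
  have e1 : (g 0)⁻¹ = g 1 := rfl
  have e3 : (g 2)⁻¹ = g 3 := rfl
  have e6 : (g 5)⁻¹ = g 6 := rfl
  obtain ⟨u, hu, v, hv', hcu, f5, fx, fy, fz⟩ := exists_fix σ.ker hc
    (X := ψ X) (Y := ψ Y) (Z := ψ Z) (T := T) (c := ψ c) (by rw [← map_pow, hX4, map_one]) hX2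
    (hψk c hcφ) h7 h8
    (by rw [MonoidHom.mem_ker, map_pow, hT]; simpa [pow_succ, mul_assoc] using r5)
    (by
      rw [MonoidHom.mem_ker, map_mul, map_mul, map_mul, map_mul, map_inv, hT, hg.1, e1]
      simpa [mul_assoc] using rx)
    (by
      rw [MonoidHom.mem_ker, map_mul, map_mul, map_mul, map_inv, map_inv, hT, hg.2.1, e3, e6]
      simpa [mul_assoc] using ry)
    (by rw [MonoidHom.mem_ker, map_pow, map_mul, hT, hg.2.2]
        simpa [pow_succ, mul_assoc] using rz)
  have cu : ∀ b, Commute u b := fun b => (Subgroup.mem_center_iff.1 (hc hu) b).symm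
  let F : Cfsg.Spor.HN.Gen → Γ := fun a => match a with
    | .x => ψ X
    | .y => ψ Y
    | .z => ψ Z * u
    | .t => T * v
  have hrel : ∀ w ∈ relP ++ relT, prodw (val (F .x) (F .y) (F .z) (F .t)) w = 1 := by
    intro w hw
    rcases List.mem_append.1 hw with hw | hw
    · obtain ⟨hev, hlt⟩ := count_ok w hw
      rw [prodw_congr (v' := val (ψ X) (ψ Y) (ψ Z * u) 1) fun i hi => by
        have := hlt i hi
        interval_cases i <;> rfl]
      rw [prodw_shift cu w hlt, hv w hw]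
      conv_lhs => arg 2; rw [hev, pow_mul]
      rw [← ((cu (ψ c)).pow_left 2).symm.mul_pow, hcu, one_pow]
    · simp only [relT, List.mem_cons, List.not_mem_nil, or_false] at hw
      rcases hw with rfl | rfl | rfl | rfl <;>
        simp only [prodw, List.map_cons, List.map_nil, List.prod_cons, List.prod_nil, mul_one, val,
          F]
      · simpa [pow_succ, mul_assoc] using f5
      · simpa [mul_assoc] using fx
      · simpa [mul_assoc] using fy
      · simpa [pow_succ, mul_assoc] using fz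
  obtain ⟨s, hsec⟩ : ∃ s : Cfsg.Spor.HN →* Γ, ∀ a, s (PresentedGroup.of a) = F a :=
    ⟨PresentedGroup.toGroup (f := F) (lift_eq_one F hrel), fun _ => PresentedGroup.toGroup.of _⟩
  have hid : ∀ γ, σ (s γ) = γ := by
    intro γ
    refine DFunLike.congr_fun (f := σ.comp s) (g := MonoidHom.id _) (PresentedGroup.ext fun a => ?_) γ
    show σ (s (PresentedGroup.of a)) = PresentedGroup.of a
    rw [hsec]
    cases a
    · exact hg.1
    · exact hg.2.1
    · show σ (ψ Z * u) = _
      rw [map_mul, MonoidHom.mem_ker.1 hu, mul_one]; exact hg.2.2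
    · show σ (T * v) = _
      rw [map_mul, MonoidHom.mem_ker.1 hv', mul_one]; exact hT
  have hrange : commutator Γ ≤ s.range := by
    rw [commutator_def, Subgroup.commutator_le]
    intro a _ b _
    refine MonoidHom.mem_range.2 ⟨⁅σ a, σ b⁆, ?_⟩
    rw [map_commutatorElement]
    exact SchurBound.commutator_congr σ hc (hid (σ a)) (hid (σ b))
  rw [eq_bot_iff]
  intro a ha
  obtain ⟨γ, hγ⟩ := hrange (hd ha)
  have : γ = 1 := by rw [← hid γ, hγ]; exact ha
  rw [Subgroup.mem_bot, ← hγ, this, map_one]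

theorem multiplier (hB : Bound) : Cfsg.HasCyclicSchurMultiplier Cfsg.Spor.HN 1 := by
  obtain ⟨hfin, -⟩ := card_le hB
  exact Schur.hasCyclicSchurMultiplier_one Cfsg.Spor.HN
    fun _ _ _ Γ _ _ σ hσ _ => stem_ker_eq_bot hB Γ σ hσ

end CfsgLib.HNMult
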