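import Cfsg.Agent.HNMult.HS

/-!
A finite central extension of `P` meets its derived group trivially: the multiplier of the
Higman–Sims group has order two and is used up by the derived group of `P`.
-/

set_option autoImplicit false

namespace CfsgLib.HNMult

open CfsgLib.HNCert
open scoped commutatorElement

theorem split (hB : Bound) {E : Type} [Group E] [Finite E] (σ : E →* P)
    (hσ : Function.Surjective σ) (hc : σ.ker ≤ Subgroup.center E) :
    σ.ker ⊓ commutator E = ⊥ := by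
  have := hB.1
  have cen : ∀ {a : E}, σ a = 1 → ∀ b, Commute a b := fun {a} ha b =>
    (Subgroup.mem_center_iff.1 (hc ha) b).symm
  obtain ⟨D, hD⟩ : ∃ D : Subgroup E, D = commutator E := ⟨_, rfl⟩
  obtain ⟨D1, hD1⟩ : ∃ D1 : Subgroup E, D1 = ⁅D, D⁆ := ⟨_, rfl⟩
  have : D.Normal := hD ▸ inferInstance
  have : D1.Normal := hD1 ▸ inferInstance
  have hmap : D.map σ = Q := by
    rw [hD, map_commutator_eq, MonoidHom.range_eq_top.2 hσ, Q, commutator_def]
  have hmap1 : D1.map σ = Q := by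
    rw [hD1, Subgroup.map_commutator, hmap, perfect]
  have hsplit : ∀ d ∈ D, ∃ e ∈ D1, ∃ a, σ a = 1 ∧ d = e * a := by
    intro d hd
    have h : σ d ∈ D1.map σ := hmap1 ▸ hmap ▸ Subgroup.mem_map_of_mem σ hd
    obtain ⟨e, he, h⟩ := h
    exact ⟨e, he, e⁻¹ * d, by rw [map_mul, map_inv, h, inv_mul_cancel], by group⟩
  have hperf : ⁅D1, D1⁆ = D1 := by
    refine le_antisymm (Subgroup.commutator_le_self _) ?_
    conv_lhs => rw [hD1]
    rw [Subgroup.commutator_le]
    intro x hx y hy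
    obtain ⟨e, he, a, ha, rfl⟩ := hsplit x hx
    obtain ⟨f, hf, b, hb, rfl⟩ := hsplit y hy
    have h : ⁅e * a, f * b⁆ = ⁅e, f⁆ := by
      simp only [commutatorElement_def, mul_inv_rev]
      calc e * a * (f * b) * (a⁻¹ * e⁻¹) * (b⁻¹ * f⁻¹)
          = e * (a * (f * b) * a⁻¹) * (e⁻¹ * b⁻¹) * f⁻¹ := by group
        _ = e * (f * b) * (b⁻¹ * e⁻¹) * f⁻¹ := by
            rw [(cen ha (f * b)).eq, mul_inv_cancel_right,
              ((cen hb e).inv_inv.symm).eq]
        _ = _ := by group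
    rw [h]
    exact Subgroup.commutator_mem_commutator he hf
  obtain ⟨f, hf, hf2, hfc⟩ := exists_to_HS hB
  obtain ⟨σ₁, hσ₁⟩ : ∃ s : D1 →* Q, ∀ d : D1, (s d : P) = σ d :=
    ⟨(σ.comp D1.subtype).codRestrict _ (fun d => hmap1 ▸ Subgroup.mem_map_of_mem σ d.2),
      fun _ => rfl⟩
  have hσ₁s : Function.Surjective σ₁ := by
    rintro ⟨q, hq⟩
    obtain ⟨d, hd, rfl⟩ := (hmap1.symm ▸ hq : q ∈ D1.map σ)
    exact ⟨⟨d, hd⟩, Subtype.ext (hσ₁ _)⟩
  obtain ⟨g, hg⟩ : ∃ g : D1 →* Cfsg.Spor.HS, g = f.comp σ₁ := ⟨_, rfl⟩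
  have htop : commutator D1 = ⊤ := by
    apply Subgroup.map_injective D1.subtype_injective
    rw [Subgroup.map_subtype_commutator, ← MonoidHom.range_eq_map, Subgroup.range_subtype, hperf]
  have hcentral : g.ker ≤ Subgroup.center D1 := by
    intro n hn
    rw [MonoidHom.mem_ker, hg, MonoidHom.comp_apply] at hn
    have hn' : (σ (n : E)) ∈ Subgroup.center P := by
      rw [← hσ₁]; exact hfc _ hn
    have hA : ∀ d : E, σ ⁅(n : E), d⁆ = 1 := fun d => by
      rw [map_commutatorElement, commutatorElement_eq_one_iff_commute]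
      exact (Subgroup.mem_center_iff.1 hn' _).symm
    let φ : D1 →* Subgroup.center E := MonoidHom.mk' (fun d => ⟨⁅(n : E), (d : E)⁆, hc (hA _)⟩)
      fun d d' => Subtype.ext (by
        have e1 : ⁅(n : E), (d : E) * d'⁆ = ⁅(n : E), (d : E)⁆ * (d * ⁅(n : E), (d' : E)⁆ * (d : E)⁻¹) := by
          simp only [commutatorElement_def]; group
        show ⁅(n : E), (d : E) * d'⁆ = ⁅(n : E), (d : E)⁆ * ⁅(n : E), (d' : E)⁆
        rw [e1, ← (cen (hA d') (d : E)).eq, mul_inv_cancel_right])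
    have hφ : (⊤ : Subgroup D1) ≤ φ.ker := by
      rw [← htop]
      rw [commutator_def, Subgroup.commutator_le]
      intro a _ b _
      rw [MonoidHom.mem_ker, map_commutatorElement, commutatorElement_eq_one_iff_commute]
      exact Subtype.ext ((Subgroup.mem_center_iff.1 (φ b).2 _))
    rw [Subgroup.mem_center_iff]
    intro d
    have h : φ d = 1 := MonoidHom.mem_ker.1 (hφ (Subgroup.mem_top d))
    have h' : ⁅(n : E), (d : E)⁆ = 1 := congrArg Subtype.val h
    exact Subtype.ext ((commutatorElement_eq_one_iff_commute.1 h').symm.eq)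
  obtain ⟨π, hπ⟩ := CfsgLib.GraphMult.HS.multiplier.2 D1 g
    ⟨hg ▸ hf.comp hσ₁s, hcentral, by rw [htop]; exact le_top⟩
  have hk2 : Nat.card g.ker ≤ 2 := (Nat.card_le_card_of_surjective _ hπ).trans (by simp)
  let r : g.ker → f.ker := fun n => ⟨σ₁ n.1, by
    have := n.2
    rw [MonoidHom.mem_ker] at this ⊢
    rwa [← MonoidHom.comp_apply, ← hg]⟩
  have hr : Function.Surjective r := by
    rintro ⟨q, hq⟩
    obtain ⟨d, rfl⟩ := hσ₁s q
    exact ⟨⟨d, by rw [MonoidHom.mem_ker, hg]; exact hq⟩, rfl⟩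
  have hrb : Function.Bijective r := (Nat.bijective_iff_surjective_and_card r).2
    ⟨hr, le_antisymm (hf2.symm ▸ hk2) (Nat.card_le_card_of_surjective _ hr)⟩
  have hinj : ∀ d ∈ D1, σ d = 1 → d = 1 := by
    intro d hd h
    have h1 : σ₁ ⟨d, hd⟩ = 1 := Subtype.ext ((hσ₁ _).trans h)
    have hmem : (⟨d, hd⟩ : D1) ∈ g.ker := by
      rw [MonoidHom.mem_ker, hg, MonoidHom.comp_apply, h1, map_one]
    have h2 := @hrb.1 ⟨⟨d, hd⟩, hmem⟩ 1 (Subtype.ext (by
      show σ₁ ⟨d, hd⟩ = σ₁ 1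
      rw [h1, map_one]))
    exact congrArg (fun z : g.ker => ((z : D1) : E)) h2
  have hDle : D ≤ D1 := by
    obtain ⟨Z, hZ⟩ := hσ (pg 4)
    have hdec : ∀ a : E, ∃ e ∈ D1, ∃ b, σ b = 1 ∧ (a = e * b ∨ a = e * b * Z) := by
      intro a
      obtain ⟨q, hq, h | h⟩ := range_eq (MonoidHom.id P) (σ a)
      all_goals
        simp only [MonoidHom.id_apply] at h
        obtain ⟨e, he, rfl⟩ := (hmap1.symm ▸ hq : q ∈ D1.map σ)
      · exact ⟨e, he, e⁻¹ * a, by rw [map_mul, map_inv, h, inv_mul_cancel], Or.inl (by group)⟩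
      · exact ⟨e, he, e⁻¹ * (a * Z⁻¹), by
          rw [map_mul, map_inv, map_mul, map_inv, hZ, h, mul_inv_cancel_right, inv_mul_cancel],
          Or.inr (by group)⟩
    let q := QuotientGroup.mk' D1
    have hq1 : ∀ e ∈ D1, q e = 1 := fun e he => (QuotientGroup.eq_one_iff e).2 he
    have hpow : ∀ a : E, ∃ b, σ b = 1 ∧ (q a = q b ∨ q a = q b * q Z) := by
      intro a
      obtain ⟨e, he, b, hb, rfl | rfl⟩ := hdec a
      · exact ⟨b, hb, Or.inl (by rw [map_mul, hq1 e he, one_mul])⟩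
      · exact ⟨b, hb, Or.inr (by rw [map_mul, map_mul, hq1 e he, one_mul])⟩
    rw [hD, commutator_def, Subgroup.commutator_le]
    intro a _ b _
    rw [← QuotientGroup.eq_one_iff]
    show q ⁅a, b⁆ = 1
    rw [map_commutatorElement, commutatorElement_eq_one_iff_commute]
    obtain ⟨a', ha', e | e⟩ := hpow a <;> obtain ⟨b', hb', e' | e'⟩ := hpow b <;> rw [e, e']
    · exact (cen ha' b').map q
    · exact ((cen ha' b').map q).mul_right ((cen ha' Z).map q)
    · exact ((cen ha' b').map q).mul_left ((cen hb' Z).map q).symm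
    · exact (((cen ha' b').map q).mul_right ((cen ha' Z).map q)).mul_left
        (((cen hb' Z).map q).symm.mul_right (Commute.refl _))
  rw [eq_bot_iff]
  rintro a ⟨ha, ha'⟩
  exact Subgroup.mem_bot.2 (hinj a (hDle (hD ▸ ha')) ha)

end CfsgLib.HNMult
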